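import Cfsg.Agent.U3.OddMain

/-!
# The centre of the root group in O'Nan's configuration
-/

set_option autoImplicit false

open MulAction OnePoint Matrix
open scoped MatrixGroups

namespace Cfsg.Lib.U3.OData

open Cfsg.Lib.Chev.Core Cfsg.Lib.Class

variable {G Ω : Type*} [Group G] [MulAction G Ω] (D : OData G Ω) [Finite G]

theorem Coord.exists_uData {D : OData G Ω} {K : Type} [Field K] [Finite K] [DecidableEq K]
    (C : D.Coord K) : ∃ U : UData G Ω K, U.P = D.U ∧ U.a = D.a ∧ U.φ = C.φ := by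
  obtain ⟨η, hη, k, h1, h2⟩ := D.exists_eta
  have hW : C.φ (slW K) • D.a = D.b := C.W_a
  have hU : ∀ s, C.φ (slU s) = C.x s := C.φ_U
  have hB : ∀ m : SL(2, K), m 1 0 = 0 → C.φ m • D.a = D.a := fun m hm => by
    rw [← C.e_inf, (C.rep_φ m).2, sl_smul_infty, if_pos hm]
  exact ⟨{
    φ := C.φ
    a := D.a
    P := D.U
    η := η
    k := k
    odd := C.card_K ▸ D.odd_q
    card_P := by rw [C.card_K, D.card_U']
    P_fix := D.U_fix
    norm := D.norm
    ne := hW ▸ D.ne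
    trans := hW ▸ D.trans
    free := hW ▸ D.free
    borel := hB
    X_mem := fun s => hU s ▸ C.x_mem s
    X_comm := fun s x hx => hU s ▸ D.X_central (C.x_mem_X s) hx
    cent_z := fun x hx h => by
      rw [C.φ_neg_one] at h
      obtain ⟨s, hs⟩ := C.exists_x (D.mem_X.2 ⟨hx, h.symm⟩)
      exact ⟨s, hs.trans (hU s).symm⟩
    two := fun g ha hb => by
      rw [hW] at hb
      rw [C.φ_neg_one]
      exact D.H_comm ⟨ha, hb⟩ D.z_mem
    semireg := fun m b h => C.φ_neg_one ▸ C.semireg m b h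
    η_fix := hW ▸ hη
    η_comm := fun m h1 h2 => D.H_comm hη ⟨hB m h2, by
      have hd := sl2_det m
      have h4 : m 1 1 ≠ 0 := fun e => by simp [h2, e] at hd
      change C.φ m • D.b = D.b
      rw [← C.e_zero, (C.rep_φ m).2, sl_smul_coe]
      simp [h1, h4]⟩
    η_pow := h1.trans C.φ_neg_one.symm
    η_big := C.card_K ▸ h2 }, rfl, rfl, rfl⟩

/-- An `H`-invariant subgroup of `U` containing `X` is `X` or `U`, and `U` is not abelian. -/
theorem irred_ncomm : (∀ B : Subgroup G, D.X ≤ B → B ≤ D.U → (∀ g : G, g • D.a = D.a → ∀ x ∈ B,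
    g * x * g⁻¹ ∈ B) → B = D.X ∨ B = D.U) ∧ ∃ x ∈ D.U, ∃ y ∈ D.U, x * y ≠ y * x := by
  classical
  obtain ⟨K, _, _, ⟨C⟩⟩ := D.exists_coord
  obtain ⟨U, h1, h2, h3⟩ := C.exists_uData
  have hX : U.X = D.X := Subgroup.ext fun x => by
    rw [U.mem_X, h3]
    refine ⟨?_, fun hx => ?_⟩
    · rintro ⟨s, rfl⟩
      exact (C.φ_U s : C.φ (slU s) = _) ▸ C.x_mem_X s
    · obtain ⟨s, hs⟩ := C.exists_x hx
      exact ⟨s, hs.trans (C.φ_U s).symm⟩
  refine ⟨fun B b1 b2 b3 => ?_, ?_⟩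
  · rw [← hX, ← h1]
    exact U.irred (hX ▸ b1) (h1 ▸ b2) (b3 _ (h2 ▸ U.η_fix.1)) fun a => b3 _ (h2 ▸ U.slD_a a)
  have := Fact.mk D.hp
  have := Fintype.ofFinite (GaloisField D.p (D.n * 2))
  have hE : Fintype.card (GaloisField D.p (D.n * 2)) = Nat.card K ^ 2 := by
    rw [← Nat.card_eq_fintype_card, GaloisField.card D.p _ (by have := D.hn; omega), pow_mul,
      C.card_K, q]
  obtain ⟨A, β, κ, h⟩ := U.exists_coord hE
  have two : (2 : GaloisField D.p (D.n * 2)) ≠ 0 := Ring.two_ne_zero (by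
    rw [ringChar.eq _ D.p]; exact D.hp2)
  have hσ := frobq_frobq hE
  generalize frobq hE = σ at *
  have ex : ∀ a, ∃ x ∈ D.U, A x = a := fun a => by
    obtain ⟨x, hx, e, -⟩ := h.surj a (κ * a * σ a / 2) (by
      rw [map_div₀, map_mul, map_mul, h.κ_conj, hσ, map_ofNat]
      field_simp
      ring)
    exact ⟨x, h1 ▸ hx, e⟩
  obtain ⟨x, hx, ex1⟩ := ex 1
  obtain ⟨y, hy, ey⟩ := ex κ
  refine ⟨x, hx, y, hy, fun e => ?_⟩
  have e1 := h.law x (h1 ▸ hx) y (h1 ▸ hy)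
  rw [e, h.law y (h1 ▸ hy) x (h1 ▸ hx), ex1, ey, h.κ_conj, map_one] at e1
  exact mul_ne_zero two (mul_ne_zero h.κ_ne h.κ_ne) (by linear_combination e1)

/-- The centre of `U` is centralised by `z`. -/
theorem mem_X_of_central {x : G} (hx : x ∈ D.U) (hc : ∀ u ∈ D.U, u * x = x * u) : x ∈ D.X := by
  rcases D.irred_ncomm.1 (D.U ⊓ Subgroup.centralizer D.U)
    (fun y hy => ⟨hy.1, fun u hu => (D.X_central hy hu).symm⟩) inf_le_left (fun g hg y hy =>
      ⟨D.norm g hg y hy.1, fun u hu => by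
        have := hy.2 _ (D.norm g⁻¹ (by rw [inv_smul_eq_iff, hg]) u hu)
        calc u * (g * y * g⁻¹) = g * (g⁻¹ * u * g⁻¹⁻¹ * y) * g⁻¹ := by group
          _ = _ := by rw [this]; group⟩) with e | e
  · exact e.le ⟨hx, hc⟩
  · obtain ⟨u, hu, v, hv, k⟩ := D.irred_ncomm.2
    exact (k ((e.ge hv).2 u hu)).elim

end Cfsg.Lib.U3.OData
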